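import Mathlib

/-! # Cycle-count sums over a `q`-group of permutations

For a `q`-group `Q` of permutations of `n` points (`q ≥ 3` prime, `a ≥ 3`):
`∑_{x ∈ Q} a ^ (number of cycles of x) ≤ a ^ n * (1 + a ^ (-(q-1))) ^ (n - 1)`. -/

set_option autoImplicit false

open Equiv Subgroup
open scoped BigOperators

namespace Cfsg.Agent.KBound

/-- Number of cycles of a permutation, fixed points included. -/
noncomputable def ncyc {α : Type} (x : Perm α) : ℕ :=
  Nat.card (Quotient (Perm.SameCycle.setoid x))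

lemma ncyc_le_card {α : Type} [Finite α] (x : Perm α) : ncyc x ≤ Nat.card α :=
  Nat.card_le_card_of_surjective (Quotient.mk _) (fun b => Quotient.exists_rep b)

lemma ncyc_pos {α : Type} [Finite α] [Nonempty α] (x : Perm α) : 0 < ncyc x := by
  obtain ⟨a⟩ := ‹Nonempty α›
  have : Nonempty (Quotient (Perm.SameCycle.setoid x)) := ⟨Quotient.mk _ a⟩
  exact Nat.card_pos

/-- Restriction of a permutation preserving `f` to a fibre of `f`. -/
def fib {α β : Type} (f : α → β) (x : Perm α) (h : ∀ a, f (x a) = f a) (i : β) :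
    Perm {a // f a = i} :=
  x.subtypePerm (fun a => by rw [h a])

lemma apply_zpow_inv {α β : Type} (f : α → β) (x : Perm α) (h : ∀ a, f (x a) = f a) :
    ∀ (k : ℤ) (a : α), f ((x ^ k) a) = f a := by
  intro k
  induction k with
  | zero => simp
  | succ k ih =>
    intro a
    rw [show ((k : ℤ) + 1) = 1 + k by ring, zpow_add, zpow_one, Perm.mul_apply, h, ih]
  | pred k ih =>
    intro a
    rw [show (-(k : ℤ) - 1) = -1 + -(k : ℤ) by ring, zpow_add, zpow_neg_one, Perm.mul_apply]
    have := h (x⁻¹ ((x ^ (-(k : ℤ))) a))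
    rw [← Perm.mul_apply, mul_inv_cancel, Perm.one_apply] at this
    rw [← this, ih]

lemma ncyc_fib {α β : Type} [Finite α] [Fintype β] (f : α → β) (x : Perm α)
    (h : ∀ a, f (x a) = f a) : ncyc x = ∑ i, ncyc (fib f x h i) := by
  classical
  unfold ncyc
  rw [← Nat.card_sigma]
  symm
  refine Nat.card_eq_of_bijective
    (fun p => Quotient.map (fun a : {a // f a = p.1} => (a : α))
      (fun a b hab => (Perm.sameCycle_subtypePerm.1 hab : _)) p.2) ⟨?_, ?_⟩
  · rintro ⟨i, qi⟩ ⟨j, qj⟩ hq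
    induction qi using Quotient.inductionOn with
    | h a =>
    induction qj using Quotient.inductionOn with
    | h b =>
    simp only [Quotient.map_mk] at hq
    have hs : x.SameCycle (a : α) (b : α) := Quotient.exact hq
    obtain ⟨k, hk⟩ := hs
    have hij : i = j := by rw [← a.2, ← b.2, ← hk, apply_zpow_inv f x h]
    subst hij
    refine congrArg (Sigma.mk i) (Quotient.sound ?_)
    exact Perm.sameCycle_subtypePerm.2 ⟨k, hk⟩
  · intro q
    induction q using Quotient.inductionOn with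
    | h a => exact ⟨⟨f a, Quotient.mk _ ⟨a, rfl⟩⟩, rfl⟩

/-- `q`-parts of factorials bound the orders of permutation `q`-groups. -/
lemma pgroup_card {α : Type} [Fintype α] {q : ℕ} [hq : Fact q.Prime] (Q : Subgroup (Perm α))
    (hQ : IsPGroup q Q) :
    ∃ E : ℕ, Nat.card Q = q ^ E ∧ (q - 1) * E ≤ Fintype.card α - 1 := by
  classical
  obtain ⟨E, hE⟩ := IsPGroup.iff_card.1 hQ
  refine ⟨E, hE, ?_⟩
  have hdvd : q ^ E ∣ (Fintype.card α).factorial := by
    rw [← hE, ← Fintype.card_perm, ← Nat.card_eq_fintype_card (α := Perm α)]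
    exact Subgroup.card_subgroup_dvd_card Q
  have hv := (padicValNat_dvd_iff_le (Nat.factorial_ne_zero _)).1 hdvd
  rcases Nat.eq_zero_or_pos (Fintype.card α) with h0 | h0
  · rw [h0] at hv
    simp at hv
    simp [hv]
  have h1 := sub_one_mul_padicValNat_factorial (p := q) (Fintype.card α)
  have hs : 1 ≤ (q.digits (Fintype.card α)).sum := by
    by_contra hc
    have hz : ∀ d ∈ q.digits (Fintype.card α), d = 0 := fun d hd => by
      have := List.le_sum_of_mem hd
      omega
    have hne := Nat.digits_ne_nil_iff_ne_zero (b := q).2 (by omega : Fintype.card α ≠ 0)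
    exact Nat.getLast_digit_ne_zero q (by omega : Fintype.card α ≠ 0)
      (hz _ (List.getLast_mem hne))
  have h2 := Nat.mul_le_mul_left (q - 1) hv
  omega

section
variable {α β : Type}

/-- Restriction homomorphism to a fibre. -/
def fibHom (f : α → β) (Q : Subgroup (Perm α)) (h : ∀ x ∈ Q, ∀ a, f (x a) = f a) (i : β) :
    ↥Q →* Perm {a // f a = i} where
  toFun x := fib f x (h x x.2) i
  map_one' := by ext; rfl
  map_mul' x y := by ext; rfl

lemma cycSum_fib [Fintype α] [Fintype β] [DecidableEq α] [DecidableEq β] (f : α → β)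
    (Q : Subgroup (Perm α)) [Fintype Q] (h : ∀ x ∈ Q, ∀ a, f (x a) = f a) (a : ℝ) (ha : 0 ≤ a)
    [∀ i, Fintype (fibHom f Q h i).range] :
    (∑ x : Q, a ^ ncyc (x : Perm α)) ≤
      ∏ i, ∑ y : (fibHom f Q h i).range, a ^ ncyc (y : Perm {b // f b = i}) := by
  classical
  rw [Fintype.prod_sum]
  let e : ↥Q ↪ ((i : β) → ↥(fibHom f Q h i).range) :=
    ⟨fun x i => ⟨fibHom f Q h i x, x, rfl⟩, by
      intro x y hxy
      apply Subtype.ext
      apply Equiv.ext
      intro b
      have := congrArg Subtype.val (congrFun hxy (f b))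
      exact congrArg Subtype.val (Equiv.ext_iff.1 this ⟨b, rfl⟩)⟩
  calc (∑ x : Q, a ^ ncyc (x : Perm α))
      = ∑ x : Q, ∏ i, a ^ ncyc ((e x i : Perm {b // f b = i})) := by
        refine Finset.sum_congr rfl (fun x _ => ?_)
        rw [Finset.prod_pow_eq_pow_sum, ncyc_fib f (x : Perm α) (h x x.2)]
        rfl
    _ = ∑ y ∈ Finset.univ.map e, ∏ i, a ^ ncyc ((y i : Perm {b // f b = i})) := by
        rw [Finset.sum_map]
    _ ≤ _ := Finset.sum_le_sum_of_subset_of_nonneg (Finset.subset_univ _)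
        (fun y _ _ => Finset.prod_nonneg (fun i _ => pow_nonneg ha _))

end

lemma pow_self_le {q : ℕ} (hq : 3 ≤ q) : q ^ q ≤ 3 ^ ((q - 1) * (q - 1)) := by
  have h1 : q ≤ 3 ^ (q - 2) := by
    induction q, hq using Nat.le_induction with
    | base => norm_num
    | succ n hn ih =>
      rw [show n + 1 - 2 = (n - 2) + 1 by omega, pow_succ]
      omega
  calc q ^ q ≤ (3 ^ (q - 2)) ^ q := Nat.pow_le_pow_left h1 q
    _ = 3 ^ ((q - 2) * q) := by rw [← pow_mul]
    _ ≤ 3 ^ ((q - 1) * (q - 1)) := by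
      refine Nat.pow_le_pow_right (by norm_num) ?_
      obtain ⟨r, rfl⟩ : ∃ r, q = r + 2 := ⟨q - 2, by omega⟩
      simp only [Nat.add_sub_cancel, show r + 2 - 1 = r + 1 by omega]
      nlinarith

theorem cycSum_le {q : ℕ} [hqf : Fact q.Prime] (hq : 3 ≤ q) {a : ℝ} (ha : 3 ≤ a) :
    ∀ (n : ℕ) {α : Type} [Fintype α] (Q : Subgroup (Perm α)) [Fintype Q], IsPGroup q Q →
      Fintype.card α = n →
      (∑ x : Q, a ^ ncyc (x : Perm α)) ≤ a ^ n * (1 + (a⁻¹) ^ (q - 1)) ^ (n - 1) := by
  intro n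
  induction n using Nat.strong_induction_on with
  | _ n IH =>
  intro α _ Q _ hQ hn
  classical
  have ha0 : (0 : ℝ) < a := by linarith
  have ha1 : (1 : ℝ) ≤ a := by linarith
  set μ : ℝ := (a⁻¹) ^ (q - 1) with hμdef
  have hμ : 0 ≤ μ := by positivity
  -- general product step
  have prodStep : ∀ (β : Type) [Fintype β] (f : α → β), Function.Surjective f →
      2 ≤ Fintype.card β → ∀ (R : Subgroup (Perm α)) [Fintype R], IsPGroup q R →
      (∀ x ∈ R, ∀ b, f (x b) = f b) →
      (∑ x : R, a ^ ncyc (x : Perm α)) ≤ a ^ n * (1 + μ) ^ (n - Fintype.card β) := by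
    intro β _ f hf hβ R _ hR hinv
    refine (cycSum_fib f R hinv a ha0.le).trans ?_
    have hsum : (∑ i, Fintype.card {b // f b = i}) = n := by
      rw [← Fintype.card_sigma, ← hn]
      exact Fintype.card_congr (Equiv.sigmaFiberEquiv f)
    have hpos : ∀ i, 1 ≤ Fintype.card {b // f b = i} := fun i => by
      obtain ⟨b, hb⟩ := hf i
      exact Fintype.card_pos_iff.2 ⟨⟨b, hb⟩⟩
    have hlt : ∀ i, Fintype.card {b // f b = i} < n := by
      intro i
      obtain ⟨j, hj⟩ := Fintype.exists_ne_of_one_lt_card (by omega : 1 < Fintype.card β) i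
      obtain ⟨b, hb⟩ := hf j
      rw [← hn]
      exact Fintype.card_subtype_lt (x := b) (by rw [hb]; exact hj)
    calc ∏ i, ∑ y : (fibHom f R hinv i).range, a ^ ncyc (y : Perm {b // f b = i})
        ≤ ∏ i, (a ^ Fintype.card {b // f b = i} *
            (1 + μ) ^ (Fintype.card {b // f b = i} - 1)) := by
          refine Finset.prod_le_prod (fun i _ => Finset.sum_nonneg
            (fun y _ => pow_nonneg ha0.le _)) (fun i _ => ?_)
          exact IH _ (hlt i) _ (hR.of_surjective _ (MonoidHom.rangeRestrict_surjective _)) rfl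
      _ = a ^ n * (1 + μ) ^ (n - Fintype.card β) := by
          rw [Finset.prod_mul_distrib, Finset.prod_pow_eq_pow_sum, Finset.prod_pow_eq_pow_sum,
            hsum, Finset.sum_tsub_distrib _ (fun i _ => hpos i), hsum]
          simp
  rcases Nat.lt_or_ge n 2 with hn2 | hn2
  · have : Subsingleton α := Fintype.card_le_one_iff_subsingleton.1 (by omega)
    have : Subsingleton Q := ⟨fun x y => Subtype.ext (Subsingleton.elim _ _)⟩
    rw [Fintype.sum_subsingleton _ (1 : Q), show n - 1 = 0 by omega, pow_zero, mul_one]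
    refine pow_le_pow_right₀ ha1 ?_
    rw [← hn, ← Nat.card_eq_fintype_card]
    exact ncyc_le_card _
  by_cases htr : ∀ b c : α, ∃ g ∈ Q, g b = c
  swap
  · push Not at htr
    obtain ⟨b, c, hbc⟩ := htr
    let f : α → Bool := fun d => decide (∃ g ∈ Q, g b = d)
    have hf : Function.Surjective f := by
      intro v
      cases v
      · refine ⟨c, decide_eq_false ?_⟩
        rintro ⟨g, hg, hgc⟩
        exact hbc g hg hgc
      · exact ⟨b, decide_eq_true ⟨1, Q.one_mem, rfl⟩⟩
    refine (prodStep Bool f hf (by simp) Q hQ ?_).trans ?_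
    · intro x hx d
      refine Bool.decide_congr ⟨?_, ?_⟩
      · rintro ⟨g, hg, hgd⟩
        exact ⟨x⁻¹ * g, Q.mul_mem (Q.inv_mem hx) hg, by rw [Perm.mul_apply, hgd]; simp⟩
      · rintro ⟨g, hg, hgd⟩
        exact ⟨x * g, Q.mul_mem hx hg, by rw [Perm.mul_apply, hgd]⟩
    · refine mul_le_mul_of_nonneg_left (pow_le_pow_right₀ (by linarith) ?_) (by positivity)
      simp only [Fintype.card_bool]; omega
  -- transitive case
  have : Nonempty α := Fintype.card_pos_iff.1 (by omega)
  obtain ⟨a0⟩ := ‹Nonempty α›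
  obtain ⟨E, hE, hEn⟩ := pgroup_card Q hQ
  rw [hn] at hEn
  -- stabiliser
  let St : Subgroup ↥Q := MulAction.stabilizer ↥Q a0
  obtain ⟨s, hs⟩ := IsPGroup.iff_card.1 (hQ.to_subgroup St)
  have hsE : s < E := by
    have hne : St ≠ ⊤ := by
      intro htop
      obtain ⟨c, hc⟩ := Fintype.exists_ne_of_one_lt_card (by omega : 1 < Fintype.card α) a0
      obtain ⟨g, hg, hgc⟩ := htr a0 c
      have : (⟨g, hg⟩ : ↥Q) ∈ St := by rw [htop]; exact Subgroup.mem_top _
      exact hc (hgc ▸ this)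
    by_contra hc
    apply hne
    apply Subgroup.eq_top_of_le_card
    rw [hs, hE]
    exact Nat.pow_le_pow_right hqf.out.pos (by omega)
  obtain ⟨M, hM, hStM⟩ := Sylow.exists_subgroup_card_pow_prime_le q (m := E - 1)
    (by rw [hE]; exact pow_dvd_pow q (by omega)) St hs (by omega)
  have hMi : M.index = q := by
    have h1 := M.card_mul_index
    rw [hM, hE, show E = E - 1 + 1 by omega, pow_succ] at h1
    simpa [hqf.out.ne_zero] using h1
  have hMn : M.Normal := by
    refine Subgroup.normal_of_index_eq_minFac_card ?_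
    rw [hMi, hE, Nat.Prime.pow_minFac hqf.out (by omega)]
  -- blocks
  let f : α → MulAction.orbitRel.Quotient ↥M α := Quotient.mk _
  have : Fintype (MulAction.orbitRel.Quotient ↥M α) := Fintype.ofFinite _
  have hfsmul : ∀ (m : ↥Q), m ∈ M → ∀ b : α, f ((m : Perm α) b) = f b := by
    intro m hm b
    exact Quotient.sound (MulAction.orbitRel_apply.2 ⟨⟨m, hm⟩, rfl⟩)
  have hfg : ∀ (g : ↥Q) (b c : α), f b = f c → f ((g : Perm α) b) = f ((g : Perm α) c) := by
    intro g b c hbc
    obtain ⟨m, hm⟩ := MulAction.orbitRel_apply.1 (Quotient.exact hbc)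
    have hm' : ((m : ↥Q) : Perm α) c = b := hm
    rw [← hm']
    have := hfsmul (g * (m : ↥Q) * g⁻¹) (hMn.conj_mem _ m.2 g) ((g : Perm α) c)
    simpa using this
  have hgtr : ∀ b : α, ∃ g : ↥Q, (g : Perm α) a0 = b := fun b => by
    obtain ⟨g, hg, hgb⟩ := htr a0 b
    exact ⟨⟨g, hg⟩, hgb⟩
  let θ : ↥Q → MulAction.orbitRel.Quotient ↥M α := fun g => f ((g : Perm α) a0)
  have hθ : ∀ g h : ↥Q, θ g = θ h ↔ g⁻¹ * h ∈ M := by
    intro g h
    constructor
    · intro hgh
      obtain ⟨m, hm⟩ := MulAction.orbitRel_apply.1 (Quotient.exact hgh)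
      have hm' : ((m : ↥Q) : Perm α) ((h : Perm α) a0) = (g : Perm α) a0 := hm
      have hst : g⁻¹ * (m : ↥Q) * h ∈ St := by
        show (((g⁻¹ * (m : ↥Q) * h : ↥Q) : Perm α)) a0 = a0
        simp [hm']
      have h2 : g⁻¹ * (m : ↥Q) * g * (g⁻¹ * h) ∈ M := by
        simpa [mul_assoc] using hStM hst
      have h3 : g⁻¹ * (m : ↥Q) * g ∈ M := by simpa using hMn.conj_mem _ m.2 g⁻¹
      exact (M.mul_mem_cancel_left h3).1 h2
    · intro hgh
      have h3 : g * (g⁻¹ * h) * g⁻¹ ∈ M := hMn.conj_mem _ hgh g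
      have := hfsmul _ h3 ((g : Perm α) a0)
      simpa using this.symm
  have hβ : Fintype.card (MulAction.orbitRel.Quotient ↥M α) = q := by
    rw [← hMi, ← Nat.card_eq_fintype_card, Subgroup.index]
    symm
    refine Nat.card_eq_of_bijective
      (Quotient.lift θ (fun g h hgh => (hθ g h).2 (QuotientGroup.leftRel_apply.1 hgh))) ⟨?_, ?_⟩
    · intro x y hxy
      induction x using Quotient.inductionOn with
      | h g =>
      induction y using Quotient.inductionOn with
      | h h => exact Quotient.sound (QuotientGroup.leftRel_apply.2 ((hθ g h).1 hxy))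
    · intro c
      induction c using Quotient.inductionOn with
      | h b =>
        obtain ⟨g, hg⟩ := hgtr b
        exact ⟨Quotient.mk _ g, by show f _ = _; rw [hg]⟩
  have hf : Function.Surjective f := fun c => Quotient.exists_rep c
  let m0 := Fintype.card {b // f b = f a0}
  have hfibeq : ∀ c, Fintype.card {b // f b = c} = m0 := by
    intro c
    obtain ⟨b, rfl⟩ := hf c
    obtain ⟨g, rfl⟩ := hgtr b
    symm
    refine Fintype.card_congr (Equiv.subtypeEquiv (g : Perm α) (fun d => ⟨hfg g d a0, fun h => ?_⟩))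
    have := hfg g⁻¹ _ _ h
    simpa using this
  have hnm : n = q * m0 := by
    rw [← hn, ← Fintype.card_congr (Equiv.sigmaFiberEquiv f), Fintype.card_sigma,
      Finset.sum_congr rfl (fun c _ => hfibeq c), Finset.sum_const, Finset.card_univ, hβ,
      smul_eq_mul]
  -- elements outside M have few cycles
  have hout : ∀ x : ↥Q, x ∉ M → ncyc (x : Perm α) ≤ m0 := by
    intro x hx
    have htop : Subgroup.zpowers x ⊔ M = ⊤ := by
      have hd : (Subgroup.zpowers x ⊔ M).index ∣ M.index :=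
        Subgroup.index_dvd_of_le le_sup_right
      rw [hMi] at hd
      rcases (Nat.dvd_prime hqf.out).1 hd with h | h
      · exact Subgroup.index_eq_one.1 h
      · exfalso
        have hrel := Subgroup.relIndex_mul_index (le_sup_right : M ≤ Subgroup.zpowers x ⊔ M)
        rw [h, hMi] at hrel
        have h1 : M.relIndex (Subgroup.zpowers x ⊔ M) = 1 := by
          have := hqf.out.pos
          nlinarith
        exact hx (Subgroup.relIndex_eq_one.1 h1
          (Subgroup.mem_sup_left (Subgroup.mem_zpowers x)))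
    unfold ncyc
    show _ ≤ Fintype.card {b // f b = f a0}
    rw [← Nat.card_eq_fintype_card]
    refine Nat.card_le_card_of_surjective (fun b : {b // f b = f a0} => Quotient.mk _ (b : α)) ?_
    intro c
    induction c using Quotient.inductionOn with
    | h b =>
      obtain ⟨g, hg⟩ := hgtr b
      have hgm : g ∈ Subgroup.zpowers x ⊔ M := by rw [htop]; exact Subgroup.mem_top _
      obtain ⟨y, hy, z, hz, hyz⟩ := Subgroup.mem_sup_of_normal_right.1 hgm
      obtain ⟨k, hk⟩ := Subgroup.mem_zpowers_iff.1 hy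
      refine ⟨⟨(z : Perm α) a0, hfsmul z hz a0⟩, Quotient.sound ⟨k, ?_⟩⟩
      show ((x : Perm α) ^ k) ((z : Perm α) a0) = b
      rw [← hg, ← hyz, ← hk]
      simp
  -- split the sum
  rw [← Finset.sum_filter_add_sum_filter_not Finset.univ (fun x : ↥Q => x ∈ M)]
  have hin : (∑ x ∈ Finset.univ.filter (fun x : ↥Q => x ∈ M), a ^ ncyc (x : Perm α)) ≤
      a ^ n * (1 + μ) ^ (n - q) := by
    have key := prodStep _ f hf (by rw [hβ]; omega) (M.map Q.subtype)
      ((hQ.to_subgroup M).map _) (by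
        intro x hx b
        obtain ⟨y, hy, rfl⟩ := Subgroup.mem_map.1 hx
        exact hfsmul y hy b)
    rw [hβ] at key
    refine le_of_eq_of_le ?_ key
    refine Finset.sum_bij (fun x hx => (⟨(x : Perm α), Subgroup.mem_map.2
      ⟨x, (Finset.mem_filter.1 hx).2, rfl⟩⟩ : ↥(M.map Q.subtype))) ?_ ?_ ?_ ?_
    · intro x hx; exact Finset.mem_univ _
    · intro x hx y hy hxy; exact Subtype.ext (congrArg (fun z : ↥(M.map Q.subtype) => (z : Perm α)) hxy)
    · rintro ⟨z, hz⟩ -
      obtain ⟨y, hy, rfl⟩ := Subgroup.mem_map.1 hz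
      exact ⟨y, Finset.mem_filter.2 ⟨Finset.mem_univ _, hy⟩, rfl⟩
    · intro x hx; rfl
  have hcount : (Finset.univ.filter (fun x : ↥Q => ¬ x ∈ M)).card = (q - 1) * q ^ (E - 1) := by
    have h1 := Finset.card_filter_add_card_filter_not (s := (Finset.univ : Finset ↥Q))
      (fun x : ↥Q => x ∈ M)
    rw [Finset.card_univ, ← Fintype.card_subtype, ← Nat.card_eq_fintype_card,
      ← Nat.card_eq_fintype_card (α := ↥Q), hE, hM] at h1
    have h2 : q ^ E = q ^ (E - 1) * q := by rw [← pow_succ]; congr 1; omega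
    rw [Nat.sub_mul, one_mul, mul_comm q]
    omega
  have hm0 : 1 ≤ m0 := Fintype.card_pos_iff.2 ⟨⟨a0, rfl⟩⟩
  have hkey : (q : ℝ) ^ (E - 1) ≤ a ^ ((q - 1) * (m0 - 1)) := by
    have hnat : q ^ (E - 1) ≤ 3 ^ ((q - 1) * (m0 - 1)) := by
      rw [← Nat.pow_le_pow_iff_left (n := q - 1) (by omega), ← pow_mul, ← pow_mul]
      have h1 : (E - 1) * (q - 1) ≤ q * (m0 - 1) := by
        rw [Nat.sub_mul, one_mul, mul_comm E, Nat.mul_sub, mul_one, ← hnm]
        omega
      calc q ^ ((E - 1) * (q - 1)) ≤ q ^ (q * (m0 - 1)) := Nat.pow_le_pow_right hqf.out.pos h1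
        _ = (q ^ q) ^ (m0 - 1) := by rw [pow_mul]
        _ ≤ (3 ^ ((q - 1) * (q - 1))) ^ (m0 - 1) := Nat.pow_le_pow_left (pow_self_le hq) _
        _ = 3 ^ ((q - 1) * (m0 - 1) * (q - 1)) := by rw [← pow_mul]; congr 1; ring
    calc (q : ℝ) ^ (E - 1) ≤ (3 : ℝ) ^ ((q - 1) * (m0 - 1)) := by exact_mod_cast hnat
      _ ≤ a ^ ((q - 1) * (m0 - 1)) := pow_le_pow_left₀ (by norm_num) ha _
  have hnexp : n = (q - 1) * (m0 - 1) + m0 + (q - 1) := by
    obtain ⟨r, hr⟩ : ∃ r, m0 = r + 1 := ⟨m0 - 1, by omega⟩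
    obtain ⟨u, hu⟩ : ∃ u, q = u + 1 := ⟨q - 1, by omega⟩
    rw [hnm, hr, hu]
    simp only [Nat.add_sub_cancel]
    ring
  have hrest : (∑ x ∈ Finset.univ.filter (fun x : ↥Q => ¬ x ∈ M), a ^ ncyc (x : Perm α)) ≤
      a ^ n * (((q - 1 : ℕ) : ℝ) * μ) := by
    refine (Finset.sum_le_card_nsmul _ _ (a ^ m0) (fun x hx =>
      pow_le_pow_right₀ ha1 (hout x (Finset.mem_filter.1 hx).2))).trans ?_
    rw [hcount, nsmul_eq_mul, Nat.cast_mul, Nat.cast_pow]
    have h1 : a ^ n * μ = a ^ ((q - 1) * (m0 - 1)) * a ^ m0 := by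
      rw [hμdef, hnexp, pow_add, pow_add, inv_pow]
      field_simp
    calc ((q - 1 : ℕ) : ℝ) * (q : ℝ) ^ (E - 1) * a ^ m0
        ≤ ((q - 1 : ℕ) : ℝ) * a ^ ((q - 1) * (m0 - 1)) * a ^ m0 := by gcongr
      _ = a ^ n * (((q - 1 : ℕ) : ℝ) * μ) := by rw [← mul_assoc, mul_comm (a ^ n), mul_assoc,
          mul_assoc, h1]
  refine (add_le_add hin hrest).trans ?_
  rw [← mul_add]
  refine mul_le_mul_of_nonneg_left ?_ (by positivity)
  rw [show n - 1 = (n - q) + (q - 1) by
    have := Nat.le_mul_of_pos_right q hm0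
    omega, pow_add]
  have hb := one_add_mul_le_pow (a := μ) (by linarith) (q - 1)
  have hp : 1 ≤ (1 + μ) ^ (n - q) := one_le_pow₀ (by linarith)
  nlinarith [mul_le_mul_of_nonneg_left hb (zero_le_one.trans hp),
    mul_nonneg (Nat.cast_nonneg (α := ℝ) (q - 1)) hμ]

end Cfsg.Agent.KBound
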