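import Cfsg.Agent.Lib.KBound.CycleSum

/-! # At most `5 ^ (d-1)` conjugacy classes in a permutation group of degree `d` -/

set_option autoImplicit false

open Equiv Subgroup
open scoped BigOperators

namespace Cfsg.Agent.KBound

/-- All prime divisors of the order are at most `N`. -/
def Smooth {G : Type} [Monoid G] (N : ℕ) (g : G) : Prop :=
  ∀ p : ℕ, p.Prime → p ∣ orderOf g → p ≤ N

lemma Smooth.of_dvd {G H : Type} [Monoid G] [Monoid H] {N : ℕ} {g : G} {h : H}
    (hg : Smooth N g) (hd : orderOf h ∣ orderOf g) : Smooth N h :=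
  fun p hp hpd => hg p hp (hpd.trans hd)

/-- Conjugacy classes of elements with `N`-smooth order. -/
abbrev Cl (N : ℕ) (G : Type) [Group G] : Type :=
  {c : ConjClasses G // ∃ g, ConjClasses.mk g = c ∧ Smooth N g}

/-- A fixed-point free cocycle is a coboundary when the orders are coprime. -/
lemma exists_coboundary {N : Type} [CommGroup N] (τ : N →* N) (k : N) (m : ℕ)
    (hτ : τ^[m] k = k) (hcop : m.Coprime (orderOf k))
    (hprod : (∏ i ∈ Finset.range m, τ^[i] k) = 1) : ∃ t : N, τ t = t * k := by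
  set u : ℕ → N := fun i => τ^[i] k with hu
  set T : N := ∏ i ∈ Finset.range m, u i ^ i with hT
  have hsucc : ∀ i, τ (u i) = u (i + 1) := fun i => by
    simp [hu, Function.iterate_succ_apply']
  have h1 : τ T * τ (∏ i ∈ Finset.range m, u i) = T * k ^ m := by
    rw [hT, map_prod, map_prod, ← Finset.prod_mul_distrib]
    have : (∏ i ∈ Finset.range (m + 1), u i ^ i) =
        (∏ i ∈ Finset.range m, (τ (u i ^ i) * τ (u i))) := by
      rw [Finset.prod_range_succ', pow_zero, mul_one]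
      refine Finset.prod_congr rfl (fun i _ => ?_)
      rw [map_pow, hsucc, pow_succ]
    rw [← this, Finset.prod_range_succ, show u m = k from hτ]
  rw [show (∏ i ∈ Finset.range m, u i) = 1 from hprod, map_one, mul_one] at h1
  obtain ⟨s, hs⟩ := exists_pow_eq_self_of_coprime hcop
  exact ⟨T ^ s, by rw [map_pow, h1, mul_pow, hs]⟩

/-- In a coset of an abelian normal subgroup, elements of order prime to its exponent are
conjugate. -/
lemma isConj_mul_of_coprime {H : Type} [Group H] (K : Subgroup H) [K.Normal]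
    (hK : ∀ x ∈ K, ∀ y ∈ K, x * y = y * x) {h k : H} (hk : k ∈ K) {m : ℕ}
    (h1 : h ^ m = 1) (h2 : (h * k) ^ m = 1) (hcop : m.Coprime (orderOf k)) :
    IsConj h (h * k) := by
  let _ : CommGroup ↥K :=
    { (inferInstance : Group ↥K) with mul_comm := fun a b => Subtype.ext (hK _ a.2 _ b.2) }
  let τ : ↥K →* ↥K :=
    { toFun := fun t => ⟨h⁻¹ * (t : H) * h, by
        simpa using (inferInstance : K.Normal).conj_mem _ t.2 h⁻¹⟩
      map_one' := by ext; simp
      map_mul' := fun a b => by ext; simp [mul_assoc] }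
  set k' : ↥K := ⟨k, hk⟩ with hk'
  have hit : ∀ j, ((τ^[j] k' : ↥K) : H) = (h ^ j)⁻¹ * k * h ^ j := by
    intro j
    induction j with
    | zero => simp [hk']
    | succ j ih =>
      rw [Function.iterate_succ_apply']
      show h⁻¹ * _ * h = _
      rw [ih, pow_succ]
      simp [mul_assoc]
  have hprod : ∀ j, (h * k) ^ j = h ^ j * ((∏ i ∈ Finset.range j, τ^[i] k' : ↥K) : H) := by
    intro j
    induction j with
    | zero => simp
    | succ j ih =>
      rw [Finset.prod_range_succ' (fun i => τ^[i] k')]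
      simp only [Function.iterate_succ_apply', Function.iterate_zero, id_eq]
      rw [← map_prod, pow_succ, ih, pow_succ, Subgroup.coe_mul]
      show _ = h ^ j * h * (h⁻¹ * _ * h * k)
      simp [mul_assoc]
  obtain ⟨t, ht⟩ := exists_coboundary τ k' m (Subtype.ext (by rw [hit, h1]; simp [hk']))
    (by rwa [Subgroup.orderOf_mk]) (by
      apply Subtype.ext
      have := hprod m
      rw [h1, h2, one_mul] at this
      exact this.symm)
  have ht' : h⁻¹ * (t : H) * h = (t : H) * k := congrArg Subtype.val ht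
  have hc : (t : H) * k = k * (t : H) := hK _ t.2 _ hk
  refine isConj_iff.2 ⟨(t : H), ?_⟩
  have : (t : H) * h = h * (k * (t : H)) := by
    rw [← hc, ← ht']
    group
  rw [this]
  group

/-- A homomorphism with abelian `q`-kernel is injective on classes of `q'`-elements. -/
lemma card_cl_le_range {H K : Type} [Group H] [Finite H] [Group K] (φ : H →* K) {q : ℕ}
    [hq : Fact q.Prime] (hc : ∀ x ∈ φ.ker, ∀ y ∈ φ.ker, x * y = y * x)
    (hp : IsPGroup q φ.ker) :
    Nat.card (Cl (q - 1) H) ≤ Nat.card (Cl (q - 1) ↥φ.range) := by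
  classical
  have : Finite ↥φ.range := Finite.of_surjective _ φ.rangeRestrict_surjective
  refine Nat.card_le_card_of_injective (fun c => ⟨ConjClasses.map φ.rangeRestrict c.1, by
    obtain ⟨g, hg, hs⟩ := c.2
    exact ⟨φ.rangeRestrict g, by rw [← hg]; rfl, hs.of_dvd (orderOf_map_dvd _ _)⟩⟩) ?_
  rintro ⟨c, g, hg, hsg⟩ ⟨c', g', hg', hsg'⟩ heq
  subst hg; subst hg'
  apply Subtype.ext
  have hconj : IsConj (φ.rangeRestrict g) (φ.rangeRestrict g') :=
    ConjClasses.mk_eq_mk_iff_isConj.1 (congrArg Subtype.val heq)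
  obtain ⟨d, hd⟩ := isConj_iff.1 hconj
  obtain ⟨c0, rfl⟩ := φ.rangeRestrict_surjective d
  have hd' : φ (c0 * g * c0⁻¹) = φ g' := by simpa using congrArg Subtype.val hd
  set g1 := c0 * g * c0⁻¹ with hg1
  have hg1c : IsConj g g1 := isConj_iff.2 ⟨c0, rfl⟩
  refine ConjClasses.mk_eq_mk_iff_isConj.2 (hg1c.trans ?_)
  have hk : g1⁻¹ * g' ∈ φ.ker := by rw [MonoidHom.mem_ker, map_mul, map_inv, hd']; simp
  have hord : orderOf g1 = orderOf g := by
    rw [hg1]
    exact (orderOf_injective (MulAut.conj c0).toMonoidHom (MulAut.conj c0).injective g)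
  have hqn : ∀ x : H, Smooth (q - 1) x → q.Coprime (orderOf x) := fun x hx =>
    (Nat.Prime.coprime_iff_not_dvd hq.out).2 (fun hdv => by
      have := hx q hq.out hdv
      have := hq.out.pos
      omega)
  obtain ⟨e, he⟩ := hp ⟨_, hk⟩
  have hke : orderOf (g1⁻¹ * g') ∣ q ^ e := orderOf_dvd_of_pow_eq_one (congrArg Subtype.val he)
  have hcop : (orderOf g * orderOf g').Coprime (orderOf (g1⁻¹ * g')) :=
    Nat.Coprime.coprime_dvd_right hke
      (Nat.Coprime.pow_right e ((hqn g hsg).mul_right (hqn g' hsg')).symm)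
  have := isConj_mul_of_coprime φ.ker hc hk (h := g1) (m := orderOf g * orderOf g')
    (by rw [pow_mul, ← hord, pow_orderOf_eq_one, one_pow])
    (by rw [mul_inv_cancel_left, mul_comm, pow_mul, pow_orderOf_eq_one, one_pow]) hcop
  rwa [mul_inv_cancel_left] at this

section step
variable {α : Type}

/-- The action of the centraliser of `x` on the cycles of `x`. -/
def cycHom (G : Subgroup (Perm α)) (x : ↥G) :
    ↥(Subgroup.centralizer ({x} : Set ↥G)) →* Perm (Quotient (Perm.SameCycle.setoid (x : Perm α))) where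
  toFun h :=
    Quotient.congr ((h : ↥G) : Perm α) (fun a b => by
      have hc : Commute ((h : ↥G) : Perm α) (x : Perm α) :=
        congrArg Subtype.val (Subgroup.mem_centralizer_singleton_iff.1 h.2)
      constructor
      · rintro ⟨i, hi⟩
        refine ⟨i, ?_⟩
        have := Equiv.ext_iff.1 (hc.zpow_right i) a
        simp only [Perm.mul_apply] at this
        rw [← this, hi]
      · rintro ⟨i, hi⟩
        refine ⟨i, ?_⟩
        have := Equiv.ext_iff.1 (hc.zpow_right i) a
        simp only [Perm.mul_apply] at this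
        exact ((h : ↥G) : Perm α).injective (this.trans hi))
  map_one' := by
    ext q
    induction q using Quotient.inductionOn with
    | h a => rfl
  map_mul' g h := by
    ext q
    induction q using Quotient.inductionOn with
    | h a => rfl

lemma cycHom_ker (G : Subgroup (Perm α)) [Finite α] (x : ↥G)
    (h : ↥(Subgroup.centralizer ({x} : Set ↥G))) (hh : h ∈ (cycHom G x).ker) :
    (∀ a, ∃ i : ℤ, ((x : Perm α) ^ i) a = ((h : ↥G) : Perm α) a) ∧
      Commute ((h : ↥G) : Perm α) (x : Perm α) := by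
  refine ⟨fun a => ?_, congrArg Subtype.val (Subgroup.mem_centralizer_singleton_iff.1 h.2)⟩
  have := Equiv.ext_iff.1 (MonoidHom.mem_ker.1 hh) (Quotient.mk _ a)
  exact Perm.SameCycle.symm (Quotient.exact this : Perm.SameCycle (x : Perm α) _ a)

lemma cycHom_ker_comm (G : Subgroup (Perm α)) [Finite α] (x : ↥G) :
    ∀ g ∈ (cycHom G x).ker, ∀ h ∈ (cycHom G x).ker, g * h = h * g := by
  intro g hg h hh
  obtain ⟨hgc, hgx⟩ := cycHom_ker G x g hg
  obtain ⟨hhc, hhx⟩ := cycHom_ker G x h hh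
  apply Subtype.ext; apply Subtype.ext; apply Equiv.ext
  intro a
  obtain ⟨i, hi⟩ := hgc a
  obtain ⟨j, hj⟩ := hhc a
  show ((g : ↥G) : Perm α) (((h : ↥G) : Perm α) a) = ((h : ↥G) : Perm α) (((g : ↥G) : Perm α) a)
  rw [← hj, ← hi]
  have e1 := Equiv.ext_iff.1 (hgx.zpow_right j) a
  have e2 := Equiv.ext_iff.1 (hhx.zpow_right i) a
  simp only [Perm.mul_apply] at e1 e2
  rw [e1, e2, ← hi, ← hj, ← Perm.mul_apply, ← Perm.mul_apply, ← zpow_add, ← zpow_add, add_comm]

lemma cycHom_ker_pow (G : Subgroup (Perm α)) [Finite α] (x : ↥G)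
    (g : ↥(Subgroup.centralizer ({x} : Set ↥G))) (hg : g ∈ (cycHom G x).ker) (n : ℕ)
    (hx : (x : Perm α) ^ n = 1) : g ^ n = 1 := by
  obtain ⟨hgc, hgx⟩ := cycHom_ker G x g hg
  apply Subtype.ext; apply Subtype.ext; apply Equiv.ext
  intro a
  obtain ⟨i, hi⟩ := hgc a
  have key : ∀ j : ℕ, (((g : ↥G) : Perm α) ^ j) a = ((x : Perm α) ^ (i * j)) a := by
    intro j
    induction j with
    | zero => simp
    | succ j ih =>
      rw [pow_succ', Perm.mul_apply, ih]
      have e1 := Equiv.ext_iff.1 (hgx.zpow_right (i * j)) a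
      simp only [Perm.mul_apply] at e1
      rw [e1, ← hi, ← Perm.mul_apply, ← zpow_add]
      congr 2
      push_cast; ring
  show (((g : ↥G) : Perm α) ^ n) a = a
  rw [key n, mul_comm, zpow_mul, zpow_natCast, hx, one_zpow, Perm.one_apply]

lemma cl_step [Fintype α] (G : Subgroup (Perm α)) {q : ℕ} [hq : Fact q.Prime]
    (P : Sylow q ↥G) [Fintype ↥(P : Subgroup ↥G)] :
    Nat.card (Cl q ↥G) ≤
      ∑ x : ↥(P : Subgroup ↥G), Nat.card (Cl (q - 1) ↥(cycHom G (x : ↥G)).range) := by
  classical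
  have h1 : ∀ x : ↥(P : Subgroup ↥G),
      Nat.card (Cl (q - 1) ↥(Subgroup.centralizer ({(x : ↥G)} : Set ↥G))) ≤
        Nat.card (Cl (q - 1) ↥(cycHom G (x : ↥G)).range) := by
    intro x
    refine card_cl_le_range _ (cycHom_ker_comm G _) ?_
    obtain ⟨e, he⟩ := P.isPGroup' x
    rintro ⟨g, hg⟩
    refine ⟨e, Subtype.ext ?_⟩
    exact cycHom_ker_pow G _ g hg _
      (congrArg Subtype.val (congrArg Subtype.val he : ((x : ↥G)) ^ q ^ e = 1))
  refine le_trans ?_ (Finset.sum_le_sum (fun x _ => h1 x))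
  rw [← Nat.card_sigma]
  let back : (Σ x : ↥(P : Subgroup ↥G),
      Cl (q - 1) ↥(Subgroup.centralizer ({(x : ↥G)} : Set ↥G))) → ConjClasses ↥G := fun p =>
    Quotient.liftOn (p.2.1 : ConjClasses _) (fun h => ConjClasses.mk ((p.1 : ↥G) * (h : ↥G)))
      (by
        intro h h' hh
        obtain ⟨c, hc⟩ := isConj_iff.1 hh
        refine ConjClasses.mk_eq_mk_iff_isConj.2 (isConj_iff.2 ⟨(c : ↥G), ?_⟩)
        have hcc : (c : ↥G) * (p.1 : ↥G) = (p.1 : ↥G) * (c : ↥G) :=
          Subgroup.mem_centralizer_singleton_iff.1 c.2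
        rw [← congrArg Subtype.val hc]
        simp only [Subgroup.coe_mul, Subgroup.coe_inv]
        rw [← mul_assoc, hcc]
        simp [mul_assoc])
  have key : ∀ c : Cl q ↥G, ∃ p, back p = c.1 := by
    rintro ⟨c, g, rfl, hsg⟩
    obtain ⟨e, m, hqm, hgm⟩ := Nat.exists_eq_pow_mul_and_not_dvd
      (orderOf_pos g).ne' q hq.out.ne_one
    have hcop : (q ^ e).Coprime m :=
      Nat.Coprime.pow_left e ((Nat.Prime.coprime_iff_not_dvd hq.out).2 hqm)
    obtain ⟨u, v, huv⟩ := (Nat.isCoprime_iff_coprime.2 hcop)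
    set gq := g ^ (v * (m : ℤ)) with hgq
    set h := g ^ (u * ((q ^ e : ℕ) : ℤ)) with hh
    have hgN : g ^ (((q ^ e : ℕ) : ℤ) * (m : ℤ)) = 1 := by
      rw [← Nat.cast_mul, zpow_natCast, ← hgm, pow_orderOf_eq_one]
    have hq1 : gq ^ q ^ e = 1 := by
      rw [hgq, ← zpow_natCast (g ^ _), ← zpow_mul,
        show v * (m : ℤ) * ((q ^ e : ℕ) : ℤ) = ((q ^ e : ℕ) : ℤ) * (m : ℤ) * v by ring,
        zpow_mul, hgN, one_zpow]
    have hm1 : h ^ m = 1 := by
      rw [hh, ← zpow_natCast (g ^ _), ← zpow_mul,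
        show u * ((q ^ e : ℕ) : ℤ) * (m : ℤ) = ((q ^ e : ℕ) : ℤ) * (m : ℤ) * u by ring,
        zpow_mul, hgN, one_zpow]
    have hsplit : gq * h = g := by
      rw [hgq, hh, ← zpow_add, add_comm, huv, zpow_one]
    have hpg : IsPGroup q ↥(Subgroup.zpowers gq) := by
      rintro ⟨y, hy⟩
      obtain ⟨i, rfl⟩ := Subgroup.mem_zpowers_iff.1 hy
      refine ⟨e, Subtype.ext ?_⟩
      show (gq ^ i) ^ q ^ e = 1
      rw [← zpow_natCast (gq ^ i), ← zpow_mul, mul_comm, zpow_mul, zpow_natCast, hq1, one_zpow]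
    obtain ⟨R, hR⟩ := hpg.exists_le_sylow
    obtain ⟨c, hcR⟩ := MulAction.exists_smul_eq ↥G R P
    have hx : c * gq * c⁻¹ ∈ (P : Subgroup ↥G) := by
      rw [← hcR, Sylow.coe_subgroup_smul]
      exact ⟨gq, hR (Subgroup.mem_zpowers gq), rfl⟩
    have hhx : c * h * c⁻¹ ∈ Subgroup.centralizer ({c * gq * c⁻¹} : Set ↥G) := by
      rw [Subgroup.mem_centralizer_singleton_iff]
      have : h * gq = gq * h := by rw [hgq, hh, ← zpow_add, ← zpow_add, add_comm]
      simp only [mul_assoc, inv_mul_cancel_left]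
      rw [← mul_assoc h, this, mul_assoc]
    refine ⟨⟨⟨_, hx⟩, ⟨ConjClasses.mk ⟨_, hhx⟩, ⟨_, hhx⟩, rfl, ?_⟩⟩, ?_⟩
    · intro p hp hpd
      rw [Subgroup.orderOf_mk] at hpd
      have hpm : p ∣ m := hpd.trans (orderOf_dvd_of_pow_eq_one (by rw [conj_pow, hm1]; simp))
      have hle : p ≤ q := hsg p hp (by rw [hgm]; exact hpm.mul_left _)
      rcases hle.lt_or_eq with hlt | rfl
      · omega
      · exact absurd hpm hqm
    · show ConjClasses.mk (c * gq * c⁻¹ * (c * h * c⁻¹)) = ConjClasses.mk g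
      refine (ConjClasses.mk_eq_mk_iff_isConj.2 (isConj_iff.2 ⟨c, ?_⟩)).symm
      rw [← hsplit]; simp [mul_assoc]
  choose j hj using key
  refine Nat.card_le_card_of_injective j (fun c c' h => Subtype.ext ?_)
  rw [← hj c, ← hj c', h]

end step

/-- The bounding constant. -/
noncomputable def A (N : ℕ) : ℝ := if N ≤ 1 then 1 else 7 / 2 - (1 / 2) * (1 / 3) ^ (N - 2)

lemma A_two_le {N : ℕ} (hN : 2 ≤ N) : 3 ≤ A N := by
  rw [A, if_neg (by omega)]
  have : ((1 : ℝ) / 3) ^ (N - 2) ≤ 1 := pow_le_one₀ (by norm_num) (by norm_num)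
  linarith

lemma A_le (N : ℕ) : A N ≤ 5 := by
  unfold A
  split_ifs
  · norm_num
  · have : (0 : ℝ) ≤ ((1 : ℝ) / 3) ^ (N - 2) := by positivity
    linarith

lemma one_le_A (N : ℕ) : 1 ≤ A N := by
  by_cases h : N ≤ 1
  · rw [A, if_pos h]
  · linarith [A_two_le (by omega : 2 ≤ N)]

lemma A_mono_succ (N : ℕ) : A N ≤ A (N + 1) := by
  by_cases h : N ≤ 1
  · rw [show A N = 1 by rw [A, if_pos h]]; exact one_le_A _
  · obtain ⟨r, rfl⟩ : ∃ r, N = r + 2 := ⟨N - 2, by omega⟩
    rw [A, A, if_neg (by omega), if_neg (by omega), show r + 2 + 1 - 2 = r + 1 by omega,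
      Nat.add_sub_cancel, pow_succ]
    have : (0 : ℝ) ≤ ((1 : ℝ) / 3) ^ r := by positivity
    linarith

lemma A_step {q : ℕ} (hq : 3 ≤ q) : A (q - 1) * (1 + (A (q - 1))⁻¹ ^ (q - 1)) ≤ A q := by
  obtain ⟨r, rfl⟩ : ∃ r, q = r + 3 := ⟨q - 3, by omega⟩
  set a := A (r + 3 - 1) with ha
  have ha3 : 3 ≤ a := A_two_le (by omega)
  have h1 : a * (1 + a⁻¹ ^ (r + 3 - 1)) = a + a⁻¹ ^ (r + 1) := by
    rw [show r + 3 - 1 = (r + 1) + 1 by omega, pow_succ]
    field_simp
  have h2 : a⁻¹ ^ (r + 1) ≤ ((1 : ℝ) / 3) ^ (r + 1) := by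
    refine pow_le_pow_left₀ (by positivity) ?_ _
    rw [one_div]
    exact inv_anti₀ (by norm_num) ha3
  rw [h1, ha, A, A, if_neg (by omega), if_neg (by omega)]
  rw [ha, A, if_neg (by omega)] at h2
  simp only [show r + 3 - 1 - 2 = r by omega, show r + 3 - 2 = r + 1 by omega, pow_succ] at *
  linarith

lemma sum_pow_pred {ι : Type} [Fintype ι] (f : ι → ℕ) (hf : ∀ i, 1 ≤ f i) {a : ℝ} :
    a * (∑ i, a ^ (f i - 1)) = ∑ i, a ^ f i := by
  rw [Finset.mul_sum]
  refine Finset.sum_congr rfl (fun i _ => ?_)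
  rw [← pow_succ', Nat.sub_add_cancel (hf i)]

/-- The main bound, by induction on the largest prime allowed. -/
theorem card_cl_le : ∀ (N : ℕ) (α : Type) [Fintype α] [Nonempty α] (G : Subgroup (Perm α)),
    (Nat.card (Cl N ↥G) : ℝ) ≤ A N ^ (Fintype.card α - 1) := by
  intro N
  induction N using Nat.strong_induction_on with
  | _ N IH =>
  intro α _ _ G
  classical
  by_cases hN : N.Prime
  swap
  · rcases Nat.eq_zero_or_pos N with rfl | hpos
    · have : Subsingleton (Cl 0 ↥G) := ⟨by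
        rintro ⟨c, g, rfl, hg⟩ ⟨c', g', rfl, hg'⟩
        have e : ∀ x : ↥G, Smooth 0 x → x = 1 := fun x hx => by
          by_contra hne
          obtain ⟨p, hp, hpd⟩ := Nat.exists_prime_and_dvd (n := orderOf x)
            (by rw [Ne, orderOf_eq_one_iff]; exact hne)
          have := hx p hp hpd
          have := hp.pos
          omega
        simp [e g hg, e g' hg']⟩
      have : Nat.card (Cl 0 ↥G) ≤ 1 := Finite.card_le_one_iff_subsingleton.2 inferInstance
      calc ((Nat.card (Cl 0 ↥G) : ℕ) : ℝ) ≤ 1 := by exact_mod_cast this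
        _ ≤ _ := one_le_pow₀ (one_le_A _)
    · have hle : Nat.card (Cl N ↥G) ≤ Nat.card (Cl (N - 1) ↥G) := by
        refine Nat.card_le_card_of_injective (fun c => ⟨c.1, ?_⟩) (fun c c' h => Subtype.ext (congrArg (fun z : Cl (N - 1) ↥G => z.1) h))
        obtain ⟨g, hg, hs⟩ := c.2
        refine ⟨g, hg, fun p hp hpd => ?_⟩
        have := hs p hp hpd
        have hne : p ≠ N := fun h => hN (h ▸ hp)
        omega
      calc ((Nat.card (Cl N ↥G) : ℕ) : ℝ) ≤ Nat.card (Cl (N - 1) ↥G) := by exact_mod_cast hle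
        _ ≤ A (N - 1) ^ (Fintype.card α - 1) := IH _ (by omega) α G
        _ ≤ _ := by
          refine pow_le_pow_left₀ (zero_le_one.trans (one_le_A _)) ?_ _
          have := A_mono_succ (N - 1)
          rwa [Nat.sub_add_cancel hpos] at this
  · have : Fact N.Prime := ⟨hN⟩
    let P : Sylow N ↥G := default
    have hstep := cl_step G P
    set a := A (N - 1) with ha
    have hc : ∀ x : ↥(P : Subgroup ↥G),
        (Nat.card (Cl (N - 1) ↥(cycHom G (x : ↥G)).range) : ℝ) ≤
          a ^ (ncyc ((x : ↥G) : Perm α) - 1) := by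
      intro x
      have : Fintype (Quotient (Perm.SameCycle.setoid ((x : ↥G) : Perm α))) := Fintype.ofFinite _
      have : Nonempty (Quotient (Perm.SameCycle.setoid ((x : ↥G) : Perm α))) :=
        ⟨Quotient.mk _ (Classical.arbitrary α)⟩
      have := IH (N - 1) (by have := hN.pos; omega) _ (cycHom G (x : ↥G)).range
      rwa [← Nat.card_eq_fintype_card] at this
    have h2 : (Nat.card (Cl N ↥G) : ℝ) ≤
        ∑ x : ↥(P : Subgroup ↥G), a ^ (ncyc ((x : ↥G) : Perm α) - 1) := by
      refine le_trans ?_ (Finset.sum_le_sum (fun x _ => hc x))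
      exact_mod_cast hstep
    refine h2.trans ?_
    let Q : Subgroup (Perm α) := (P : Subgroup ↥G).map G.subtype
    have hQ : IsPGroup N ↥Q := P.isPGroup'.map _
    rcases Nat.lt_or_ge N 3 with h3 | h3
    · have hN2 : N = 2 := by have := hN.two_le; omega
      subst hN2
      have ha1 : a = 1 := by rw [ha, A, if_pos (by norm_num)]
      simp only [ha1, one_pow, Finset.sum_const, Finset.card_univ, nsmul_eq_mul, mul_one]
      obtain ⟨E, hE, hEn⟩ := pgroup_card Q hQ
      rw [← Nat.card_eq_fintype_card, ← Subgroup.card_map_of_injective G.subtype_injective]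
      calc ((Nat.card ↥Q : ℕ) : ℝ) = (2 : ℝ) ^ E := by rw [hE]; norm_num
        _ ≤ (2 : ℝ) ^ (Fintype.card α - 1) := pow_le_pow_right₀ (by norm_num) (by omega)
        _ ≤ _ := pow_le_pow_left₀ (by norm_num) (by linarith [A_two_le (le_refl 2)]) _
    · have ha3 : 3 ≤ a := A_two_le (by omega)
      have hsum := cycSum_le h3 ha3 _ Q hQ rfl
      have heq : (∑ x : ↥(P : Subgroup ↥G), a ^ ncyc ((x : ↥G) : Perm α)) =
          ∑ y : ↥Q, a ^ ncyc (y : Perm α) :=
        Fintype.sum_equiv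
          ((P : Subgroup ↥G).equivMapOfInjective G.subtype G.subtype_injective).toEquiv _ _
          (fun x => rfl)
      rw [← heq, ← sum_pow_pred (fun x : ↥(P : Subgroup ↥G) => ncyc ((x : ↥G) : Perm α))
        (fun x => ncyc_pos _)] at hsum
      have hn : 1 ≤ Fintype.card α := Fintype.card_pos
      set n := Fintype.card α
      have hapos : 0 < a := by linarith
      refine le_trans (le_of_mul_le_mul_left ?_ hapos)
        (pow_le_pow_left₀ (by positivity) (A_step h3) (n - 1))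
      refine hsum.trans (le_of_eq ?_)
      rw [← ha, mul_pow, ← mul_assoc, ← pow_succ', Nat.sub_add_cancel hn]

theorem card_conjClasses_le {α : Type} [Fintype α] [Nonempty α] (G : Subgroup (Perm α)) :
    Nat.card (ConjClasses ↥G) ≤ 5 ^ (Fintype.card α - 1) := by
  classical
  set n := Fintype.card α
  have hle : Nat.card (ConjClasses ↥G) ≤ Nat.card (Cl n ↥G) := by
    refine Nat.card_le_card_of_injective (fun c => ⟨c, ?_⟩) (fun c c' h => congrArg (fun z : Cl n ↥G => z.1) h)
    induction c using Quotient.inductionOn with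
    | h g =>
      refine ⟨g, rfl, fun p hp hpd => ?_⟩
      have h1 : orderOf g ∣ n.factorial := by
        rw [← Fintype.card_perm, ← Subgroup.orderOf_coe]
        exact orderOf_dvd_card
      exact (Nat.Prime.dvd_factorial hp).1 (hpd.trans h1)
  have h2 := card_cl_le n α G
  have h3 : (Nat.card (ConjClasses ↥G) : ℝ) ≤ (5 : ℝ) ^ (n - 1) :=
    calc ((Nat.card (ConjClasses ↥G) : ℕ) : ℝ) ≤ Nat.card (Cl n ↥G) := by exact_mod_cast hle
      _ ≤ _ := h2.trans (pow_le_pow_left₀ (zero_le_one.trans (one_le_A _)) (A_le _) _)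
  exact_mod_cast h3

end Cfsg.Agent.KBound
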